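import Groth.Agent.H17.KoszComp.Ring
import Groth.Agent.H29Slice.RegImm
import Groth.Agent.H29Blow.Basic
import Groth.Agent.H17.KerStalk

/-!
# Composites of Koszul-regular immersions
-/

set_option autoImplicit false
universe u

open CategoryTheory AlgebraicGeometry TopologicalSpace

namespace Groth.Agent.H17.KoszComp

variable {X Y Z : Scheme.{u}}

/-- A Koszul-regular chart restricts to smaller affine opens. -/
theorem chart_restrict (i : Y ⟶ X) (U V : X.affineOpens) (hVU : V.1 ≤ U.1) (hcl : IsClosedImmersion (i ∣_ U.1))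
    {rs : List Γ(X, U.1)} (hrs : LCI.IsKoszulRegularSeq Γ(X, U.1) rs)
    (hker : RingHom.ker (i.app U.1).hom = Ideal.ofList rs) :
    IsClosedImmersion (i ∣_ V.1) ∧
      LCI.IsKoszulRegularSeq Γ(X, V.1) (rs.map (X.presheaf.map (homOfLE hVU).op).hom) ∧
      RingHom.ker (i.app V.1).hom = Ideal.ofList (rs.map (X.presheaf.map (homOfLE hVU).op).hom) := by
  have H : IsPullback (𝟙 Y) i i (𝟙 X) := IsPullback.of_horiz_isIso ⟨by simp⟩
  obtain ⟨hcl', hker'⟩ := H29Slice.restrict_baseChange H U.2 hcl V.2 (e := hVU)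
  have he : (Scheme.Hom.appLE (𝟙 X) U.1 V.1 hVU) = X.presheaf.map (homOfLE hVU).op := by
    simp only [Scheme.Hom.appLE, Scheme.Hom.id_app]
    rfl
  refine ⟨hcl', ?_, ?_⟩
  · letI : Algebra Γ(X, U.1) Γ(X, V.1) := (X.presheaf.map (homOfLE hVU).op).hom.toAlgebra
    haveI : Module.Flat Γ(X, U.1) Γ(X, V.1) := by
      have hfl := Scheme.Hom.flat_appLE (𝟙 X) U.2 V.2 hVU
      rw [he] at hfl
      exact hfl
    exact KoszulBC.isKoszulRegularSeq_map Γ(X, V.1) hrs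
  · rw [hker', hker, Ideal.map_ofList, he]

/-- Charts of a composite. -/
theorem exists_chart (i : Y ⟶ X) [IsImmersion i] (j : Z ⟶ Y) (z : Z) (U : X.affineOpens)
    (hzU : i (j z) ∈ U.1) (hclU : IsClosedImmersion (i ∣_ U.1)) (rs : List Γ(X, U.1))
    (hrs : LCI.IsKoszulRegularSeq Γ(X, U.1) rs) (hkU : RingHom.ker (i.app U.1).hom = Ideal.ofList rs)
    (W : Y.affineOpens) (hzW : j z ∈ W.1) (hclW : IsClosedImmersion (j ∣_ W.1)) (gs : List Γ(Y, W.1))
    (hgs : LCI.IsKoszulRegularSeq Γ(Y, W.1) gs) (hkW : RingHom.ker (j.app W.1).hom = Ideal.ofList gs) :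
    ∃ D : X.affineOpens, (j ≫ i) z ∈ D.1 ∧ IsClosedImmersion ((j ≫ i) ∣_ D.1) ∧
      ∃ ts : List Γ(X, D.1), ts.length = gs.length + rs.length ∧ LCI.IsKoszulRegularSeq Γ(X, D.1) ts ∧
        RingHom.ker ((j ≫ i).app D.1).hom = Ideal.ofList ts := by
  obtain ⟨O, hO, hOW⟩ := i.isEmbedding.isInducing.isOpen_iff.1 W.1.isOpen
  have hzO : i (j z) ∈ O := by
    have : j z ∈ i ⁻¹' O := hOW.ge hzW
    exact this
  obtain ⟨b, hb, hzb⟩ := U.2.exists_basicOpen_le (V := ⟨O, hO⟩) ⟨i (j z), hzO⟩ hzU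
  let D : X.affineOpens := X.affineBasicOpen b
  have hDU : D.1 ≤ U.1 := X.basicOpen_le b
  obtain ⟨hclD, hrD, hkD⟩ := chart_restrict i U D hDU hclU hrs hkU
  let W' : Y.Opens := i ⁻¹ᵁ D.1
  have hW'W : W' ≤ W.1 := fun y hy => hOW.le (show y ∈ i ⁻¹' O from hb hy)
  haveI : IsAffine (D.1 : Scheme.{u}) := D.2
  haveI := hclD
  have hW' : IsAffineOpen W' := isAffine_of_isAffineHom (i ∣_ D.1)
  obtain ⟨hclW', hgW', hkW'⟩ := chart_restrict j W ⟨W', hW'⟩ hW'W hclW hgs hkW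
  have hsurj : Function.Surjective (i.app D.1).hom := (app_surjective_of_restrict i D.2).1
  have hts : ∀ g : Γ(Y, W'), ∃ a, (i.app D.1).hom a = g := hsurj
  choose lift hlift using hts
  let gs' := (gs.map (Y.presheaf.map (homOfLE hW'W).op).hom).map lift
  have hmap : gs'.map (i.app D.1).hom = gs.map (Y.presheaf.map (homOfLE hW'W).op).hom := by
    simp only [gs', List.map_map]
    refine List.map_congr_left fun a _ => ?_
    simp [hlift]
  refine ⟨D, hzb, ?_, gs' ++ rs.map (X.presheaf.map (homOfLE hDU).op).hom, by simp [gs'],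
    isKoszulRegularSeq_append (i.app D.1).hom hsurj hrD hkD (hmap.symm ▸ hgW'), ?_⟩
  · rw [morphismRestrict_comp]
    exact MorphismProperty.comp_mem (W := @IsClosedImmersion) _ _ hclW' hclD
  · rw [Scheme.Hom.comp_app]
    change RingHom.ker ((j.app W').hom.comp (i.app D.1).hom) = _
    rw [← RingHom.comap_ker, hkW', ← hmap, ← Ideal.map_ofList,
      Ideal.comap_map_of_surjective _ hsurj, ← RingHom.ker_eq_comap_bot, hkD, Ideal.ofList_append]

theorem comp_isRegularImmersion (i : Y ⟶ X) (j : Z ⟶ Y) (hi : RegImm.IsRegularImmersion .koszul i)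
    (hj : RegImm.IsRegularImmersion .koszul j) : RegImm.IsRegularImmersion .koszul (j ≫ i) := by
  haveI := hi.1
  haveI := hj.1
  refine ⟨inferInstance, fun z => ?_⟩
  obtain ⟨U, hzU, hclU, rs, hrs, hkU⟩ := hi.2 (j z)
  obtain ⟨W, hzW, hclW, gs, hgs, hkW⟩ := hj.2 z
  obtain ⟨D, hzD, hclD, ts, -, hts, hkD⟩ := exists_chart i j z U hzU hclU rs hrs hkU W hzW hclW gs hgs hkW
  exact ⟨D, hzD, hclD, ts, hts, hkD⟩

theorem comp_isRegularImmersionOfCodim (n m : ℕ) (i : Y ⟶ X) (j : Z ⟶ Y)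
    (hi : RegImm.IsRegularImmersionOfCodim .koszul n i) (hj : RegImm.IsRegularImmersionOfCodim .koszul m j) :
    RegImm.IsRegularImmersionOfCodim .koszul (m + n) (j ≫ i) := by
  haveI := hi.1
  haveI := hj.1
  refine ⟨inferInstance, fun z => ?_⟩
  obtain ⟨U, hzU, hclU, rs, hlr, hrs, hkU⟩ := hi.2 (j z)
  obtain ⟨W, hzW, hclW, gs, hlg, hgs, hkW⟩ := hj.2 z
  obtain ⟨D, hzD, hclD, ts, hlen, hts, hkD⟩ := exists_chart i j z U hzU hclU rs hrs hkU W hzW hclW gs hgs hkW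
  exact ⟨D, hzD, hclD, ts, by rw [hlen, hlg, hlr], hts, hkD⟩

end Groth.Agent.H17.KoszComp
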