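import Groth.Agent.H17.KoszulBC
import Groth.Agent.H29Slice.KoszulReg
import Mathlib

/-!
# Concatenation of Koszul-regular sequences
-/

set_option autoImplicit false
universe u

open CategoryTheory CategoryTheory.Limits CochainComplex
open Groth.Agent.H8Props.PseudoCoh

namespace Groth.Agent.H17.KoszComp

variable {A B : Type u} [CommRing A] [CommRing B] (q : A →+* B)

/-- A degreewise surjective comparison map of complexes with exact kernel. -/
structure Cmp (K : CochainComplex (ModuleCat.{u} A) ℤ) (L : CochainComplex (ModuleCat.{u} B) ℤ) where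
  π : ∀ i, K.X i →+ L.X i
  smul : ∀ i (r : A) x, π i (r • x) = q r • π i x
  surj : ∀ i, Function.Surjective (π i)
  comm : ∀ i j x, i + 1 = j → π j (K.d i j x) = L.d i j (π i x)
  ker : ∀ (i j k : ℤ) (x : K.X j), i + 1 = j → j + 1 = k → π j x = 0 → K.d j k x = 0 →
    ∃ y, π i y = 0 ∧ K.d i j y = x

theorem exists_base (hq : Function.Surjective q) {l : List A} (hl : LCI.IsKoszulRegularSeq A l)
    (hker : RingHom.ker q = Ideal.ofList l) :
    Nonempty (Cmp q (Koszul.koszul A l) (Koszul.koszul B ([] : List B))) := by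
  obtain ⟨ε, p, hp, hd, -⟩ := H29Slice.koszul_low l
  let eB : (Koszul.koszul B ([] : List B)).X 0 ≃ₗ[B] B := (HomologicalComplex.singleObjXSelf (ComplexShape.up ℤ) 0 (ModuleCat.of B B)).toLinearEquiv
  have hs : ∀ i : ℤ, i ≠ 0 → Subsingleton ((Koszul.koszul B ([] : List B)).X i) := fun i hi =>
    ModuleCat.subsingleton_of_isZero (HomologicalComplex.isZero_single_obj_X _ _ _ _ hi)
  have ex : ∀ i, ∃ π : (Koszul.koszul A l).X i →+ (Koszul.koszul B ([] : List B)).X i,
      (∀ (r : A) x, π (r • x) = q r • π x) ∧ Function.Surjective π ∧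
      ∀ h : i = 0, ∀ x, π x = 0 ↔ ε (h ▸ x) ∈ Ideal.ofList l := fun i => by
    by_cases hi : i = 0
    · subst hi
      refine ⟨{ toFun := fun x => eB.symm (q (ε x))
                map_zero' := by simp
                map_add' := fun x y => by simp only [map_add] }, fun r x => ?_, fun y => ?_, fun _ x => ?_⟩
      · show eB.symm (q (ε (r • x))) = q r • eB.symm (q (ε x))
        rw [← map_smul eB.symm, map_smul, smul_eq_mul, map_mul, smul_eq_mul]
      · obtain ⟨a, ha⟩ := hq (eB y)
        exact ⟨ε.symm a, by show eB.symm (q (ε (ε.symm a))) = y; rw [ε.apply_symm_apply, ha, eB.symm_apply_apply]⟩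
      · show eB.symm (q (ε x)) = 0 ↔ ε x ∈ _
        rw [LinearEquiv.map_eq_zero_iff, ← RingHom.mem_ker, hker]
    · haveI := hs i hi
      exact ⟨0, fun r x => Subsingleton.elim _ _, fun y => ⟨0, Subsingleton.elim _ _⟩, fun h => absurd h hi⟩
  choose π hsm hsu h0 using ex
  have hzero : ∀ i, i ≠ 0 → ∀ x, π i x = 0 := fun i hi x => @Subsingleton.elim _ (hs i hi) _ _
  refine ⟨⟨π, hsm, hsu, fun i j x hij => ?_, fun i j k x hij hjk hx hdx => ?_⟩⟩
  · by_cases hi : i = 0
    · exact @Subsingleton.elim _ (hs j (by omega)) _ _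
    · rw [hzero i hi x, map_zero]
      by_cases hj : j = 0
      · subst hj
        obtain rfl : i = -1 := by omega
        refine (h0 0 rfl _).2 ?_
        rw [show ε ((Koszul.koszul A l).d (-1) 0 x) = _ from hd x]
        exact Ideal.sum_mem _ fun m _ => Ideal.mul_mem_left _ _ (Ideal.subset_span (List.get_mem l m))
      · exact @Subsingleton.elim _ (hs j hj) _ _
  · by_cases hj : j = 0
    · subst hj
      obtain rfl : i = -1 := by omega
      have hm : ε x ∈ Submodule.span A (Set.range l.get) := by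
        have hset : Set.range l.get = {a | a ∈ l} := Set.ext fun a =>
          ⟨fun ⟨m, hm⟩ => hm ▸ List.get_mem l m, fun ha => List.mem_iff_get.1 ha⟩
        rw [hset]
        exact (h0 0 rfl x).1 hx
      obtain ⟨c, hc⟩ := (Submodule.mem_span_range_iff_exists_fun A).1 hm
      obtain ⟨y, hy⟩ := hp c
      refine ⟨y, hzero (-1) (by omega) y, ε.injective ?_⟩
      rw [hd, hy, ← hc]
      simp [smul_eq_mul]
    · obtain ⟨y, hy⟩ := H29Slice.exists_preimage_of_isZero_homology _ i j k hij hjk (hl j hj) x hdx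
      by_cases hi : i = 0
      · subst hi
        haveI := ModuleCat.subsingleton_of_isZero (koszul_isZero l j (Or.inr (by omega)))
        exact ⟨0, map_zero _, Subsingleton.elim _ _⟩
      · exact ⟨y, hzero i hi y, hy⟩

theorem exists_cons (g : A) {l : List A} {m : List B}
    (c : Cmp q (Koszul.koszul A l) (Koszul.koszul B m)) :
    Nonempty (Cmp q (Koszul.koszul A (g :: l)) (Koszul.koszul B (q g :: m))) := by
  let eA : ∀ i : ℤ, (Koszul.koszul A (g :: l)).X i ≃ₗ[A]
      (Koszul.koszul A l).X (i + 1) × (Koszul.koszul A l).X i := fun i =>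
    coneXEquiv (g • 𝟙 (Koszul.koszul A l)) i (i + 1) rfl
  let eB : ∀ i : ℤ, (Koszul.koszul B (q g :: m)).X i ≃ₗ[B]
      (Koszul.koszul B m).X (i + 1) × (Koszul.koszul B m).X i := fun i =>
    coneXEquiv (q g • 𝟙 (Koszul.koszul B m)) i (i + 1) rfl
  let π : ∀ i, (Koszul.koszul A (g :: l)).X i →+ (Koszul.koszul B (q g :: m)).X i := fun i =>
    { toFun := fun x => (eB i).symm (c.π (i + 1) (eA i x).1, c.π i (eA i x).2)
      map_zero' := by
        rw [show eA i 0 = 0 from map_zero (eA i)]
        simp only [Prod.fst_zero, Prod.snd_zero, map_zero]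
        exact map_zero (eB i).symm
      map_add' := fun x y => by
        rw [show eA i (x + y) = eA i x + eA i y from map_add (eA i) x y]
        simp only [Prod.fst_add, Prod.snd_add, map_add, ← Prod.mk_add_mk] }
  have hπ : ∀ i x, eB i (π i x) = (c.π (i + 1) (eA i x).1, c.π i (eA i x).2) := fun i x =>
    (eB i).apply_symm_apply _
  refine ⟨⟨π, fun i r x => ?_, fun i y => ?_, fun i j x hij => ?_, fun i j k x hij hjk hx hdx => ?_⟩⟩
  · apply (eB i).injective
    rw [show eB i (q r • π i x) = q r • eB i (π i x) from map_smul (eB i) _ _, hπ, hπ,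
      show eA i (r • x) = r • eA i x from map_smul (eA i) _ _]
    simp [c.smul]
  · obtain ⟨a, ha⟩ := c.surj (i + 1) (eB i y).1
    obtain ⟨b, hb⟩ := c.surj i (eB i y).2
    refine ⟨(eA i).symm (a, b), (eB i).injective ?_⟩
    rw [hπ, (eA i).apply_symm_apply, ha, hb]
  · subst hij
    apply (eB (i + 1)).injective
    rw [hπ, show eA (i + 1) ((Koszul.koszul A (g :: l)).d i (i + 1) x) = _ from
        H29Slice.koszul_cons_d g l i (i + 1) (i + 1 + 1) rfl rfl x,
      show eB (i + 1) ((Koszul.koszul B (q g :: m)).d i (i + 1) (π i x)) = _ from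
        H29Slice.koszul_cons_d (q g) m i (i + 1) (i + 1 + 1) rfl rfl _,
      show coneXEquiv (q g • 𝟙 (Koszul.koszul B m)) i (i + 1) rfl (π i x) = _ from hπ i x]
    simp only [eA, map_neg, map_add, c.smul, c.comm _ _ _ rfl]
    rfl
  · subst hij
    subst hjk
    have hd := (congrArg (eA (i + 1 + 1)) hdx).trans (map_zero (eA (i + 1 + 1)))
    rw [show eA (i + 1 + 1) ((Koszul.koszul A (g :: l)).d (i + 1) (i + 1 + 1) x) = _ from
      H29Slice.koszul_cons_d g l (i + 1) (i + 1 + 1) (i + 1 + 1 + 1) rfl rfl x] at hd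
    obtain ⟨hd1, hd2⟩ := Prod.ext_iff.1 hd
    have h0 : (c.π (i + 1 + 1) (eA (i + 1) x).1, c.π (i + 1) (eA (i + 1) x).2) = 0 := by
      rw [← hπ, hx]; exact map_zero _
    obtain ⟨hx1, hx2⟩ := Prod.ext_iff.1 h0
    obtain ⟨a', ha0, ha⟩ := c.ker (i + 1) (i + 1 + 1) (i + 1 + 1 + 1) (eA (i + 1) x).1 rfl rfl hx1
      (neg_eq_zero.1 hd1)
    obtain ⟨b', hb0, hb⟩ := c.ker i (i + 1) (i + 1 + 1) ((eA (i + 1) x).2 + g • a') rfl rfl
      (by rw [map_add, c.smul, ha0, smul_zero, add_zero]; exact hx2)
      (by rw [map_add, map_smul, ha]; exact (add_comm _ _).trans hd2)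
    refine ⟨(eA i).symm (-a', b'), (eB i).injective ?_, (eA (i + 1)).injective ?_⟩
    · rw [hπ, (eA i).apply_symm_apply]
      simp only [map_neg, ha0, hb0, neg_zero]
      exact (map_zero (eB i)).symm
    · rw [show eA (i + 1) ((Koszul.koszul A (g :: l)).d i (i + 1) ((eA i).symm (-a', b'))) = _ from
        H29Slice.koszul_cons_d g l i (i + 1) (i + 1 + 1) rfl rfl _,
        show coneXEquiv (g • 𝟙 (Koszul.koszul A l)) i (i + 1) rfl ((eA i).symm (-a', b')) = (-a', b') from
          (eA i).apply_symm_apply _]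
      refine Prod.ext ?_ ?_
      · show -((Koszul.koszul A l).d (i + 1) (i + 1 + 1) (-a')) = (eA (i + 1) x).1
        rw [map_neg, neg_neg, ha]
      · show g • (-a') + (Koszul.koszul A l).d i (i + 1) b' = (eA (i + 1) x).2
        rw [hb, smul_neg]
        abel

/-- Lifts of a Koszul-regular sequence modulo a Koszul-regular ideal concatenate to a Koszul-regular one. -/
theorem isKoszulRegularSeq_append (hq : Function.Surjective q) {l : List A}
    (hl : LCI.IsKoszulRegularSeq A l) (hker : RingHom.ker q = Ideal.ofList l) {gs : List A}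
    (hg : LCI.IsKoszulRegularSeq B (gs.map q)) : LCI.IsKoszulRegularSeq A (gs ++ l) := by
  have hc : ∀ gs : List A, Nonempty (Cmp q (Koszul.koszul A (gs ++ l)) (Koszul.koszul B (gs.map q))) := by
    intro gs
    induction gs with
    | nil => exact exists_base q hq hl hker
    | cons g gs ih => exact exists_cons q g ih.some
  obtain ⟨c⟩ := hc gs
  intro i hi
  rw [← HomologicalComplex.exactAt_iff_isZero_homology,
    HomologicalComplex.exactAt_iff' _ (i - 1) i (i + 1) (by simp) (by simp),
    ShortComplex.moduleCat_exact_iff]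
  intro x' hx
  obtain ⟨x, rfl⟩ : ∃ x : (Koszul.koszul A (gs ++ l)).X i, x = x' := ⟨x', rfl⟩
  replace hx : (Koszul.koszul A (gs ++ l)).d i (i + 1) x = 0 := hx
  obtain ⟨w, hw⟩ := H29Slice.exists_preimage_of_isZero_homology _ (i - 1) i (i + 1) (by omega) rfl (hg i hi)
    (c.π i x) (by rw [← c.comm i (i + 1) x rfl, hx, map_zero])
  obtain ⟨w', rfl⟩ := c.surj (i - 1) w
  obtain ⟨y, -, hy⟩ := c.ker (i - 1) i (i + 1) (x - (Koszul.koszul A (gs ++ l)).d (i - 1) i w') (by omega) rfl
    (by rw [map_sub, c.comm (i - 1) i w' (by omega), hw, sub_self])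
    (by
      rw [map_sub, hx, ← ConcreteCategory.comp_apply, HomologicalComplex.d_comp_d]
      simp)
  refine ⟨w' + y, ?_⟩
  show (Koszul.koszul A (gs ++ l)).d (i - 1) i (w' + y) = x
  rw [map_add, hy]
  abel

end Groth.Agent.H17.KoszComp
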